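import Cfsg.Agent.WreathD8.Data

/-!
Coordinates from generators, and the Sylow 2-subgroup of the symmetric group of degree eight.
-/

set_option autoImplicit false
set_option linter.style.haveILetI false
set_option maxHeartbeats 400000

namespace Cfsg.Agent.WreathD8

open Subgroup

variable {G : Type*} [Group G]

/-- homomorphism from two involutions with product of order dividing four -/
def dhom (x y : G) (hx : x * x = 1) (hy : y * y = 1) (h4 : (x * y) ^ 4 = 1) : D →* G where
  toFun u := match u with
    | DihedralGroup.r i => (x * y) ^ i.val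
    | DihedralGroup.sr i => x * (x * y) ^ i.val
  map_one' := by
    show (x * y) ^ (0 : ZMod 4).val = 1
    simp
  map_mul' := by
    have hp : ∀ i j : ZMod 4, (x * y) ^ (i + j).val = (x * y) ^ i.val * (x * y) ^ j.val := fun i j => by
      rw [← pow_add, ZMod.val_add, ← pow_eq_pow_mod _ h4]
    have hswap : ∀ i : ZMod 4, (x * y) ^ i.val * x = x * (x * y) ^ (-i).val := by
      intro i
      have h1 : (x * y) ^ i.val = ((x * y) ^ (-i).val)⁻¹ := eq_inv_of_mul_eq_one_left (by rw [← hp]; simp)
      have h2 : ∀ m : ℕ, ((x * y) ^ m)⁻¹ * x = x * (x * y) ^ m := by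
        intro m
        induction m with
        | zero => simp
        | succ m ih =>
          rw [pow_succ, mul_inv_rev, mul_assoc, ih, ← mul_assoc, mul_inv_rev, inv_eq_of_mul_eq_one_right hx,
            inv_eq_of_mul_eq_one_right hy]
          have hc : y * x * x = x * (x * y) := by
            rw [mul_assoc, hx, mul_one, ← mul_assoc, hx, one_mul]
          rw [hc, mul_assoc, ← pow_succ', pow_succ]
      rw [h1, h2]
    rintro (i | i) (j | j)
    · show (x * y) ^ (i + j).val = _
      rw [hp]
    · show x * (x * y) ^ (j - i).val = (x * y) ^ i.val * (x * (x * y) ^ j.val)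
      rw [← mul_assoc, hswap, mul_assoc, ← hp, neg_add_eq_sub]
    · show x * (x * y) ^ (i + j).val = _
      rw [hp, mul_assoc]
    · show (x * y) ^ (j - i).val = x * (x * y) ^ i.val * (x * (x * y) ^ j.val)
      rw [mul_assoc x, ← mul_assoc ((x * y) ^ i.val), hswap, ← mul_assoc, ← mul_assoc, hx, one_mul, ← hp,
        neg_add_eq_sub]

theorem dhom_aD (x y : G) (hx : x * x = 1) (hy : y * y = 1) (h4 : (x * y) ^ 4 = 1) :
    dhom x y hx hy h4 aD = x ∧ dhom x y hx hy h4 cD = y := by
  constructor
  · show x * (x * y) ^ (0 : ZMod 4).val = x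
    simp
  · show x * (x * y) ^ (1 : ZMod 4).val = y
    rw [show (1 : ZMod 4).val = 1 from rfl, pow_one, ← mul_assoc, hx, one_mul]

variable (h : D →* G) (s : G) (hs : s * s = 1) (hcomm : ∀ u v : D, h u * (s * h v * s) = (s * h v * s) * h u)

/-- the map -/
def wmap (g : Mod) : G := h g.1.1 * (s * h g.1.2 * s) * (bif g.2 then s else 1)

include hs hcomm in
theorem wmap_mul (g k : Mod) : wmap h s (mm g k) = wmap h s g * wmap h s k := by
  rcases g with ⟨⟨a, b⟩, e⟩
  rcases k with ⟨⟨c, d⟩, f⟩
  have hc : ∀ u v : D, s * (h u * (s * h v * s)) = (h v * (s * h u * s)) * s := fun u v => by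
    rw [hcomm v u]
    group
  cases e
  · simp only [wmap, mm, cond_false, mul_one, map_mul, Bool.false_xor]
    rw [show h a * (s * h b * s) * (h c * (s * h d * s) * (bif f then s else 1)) =
      h a * ((s * h b * s) * h c) * (s * h d * s) * (bif f then s else 1) by group, ← hcomm c b]
    rw [show h a * (h c * (s * h b * s)) * (s * h d * s) = h a * h c * (s * h b * (s * s) * h d * s) by group, hs]
    group
  · simp only [wmap, mm, cond_true, map_mul, Bool.true_xor]
    rw [show h a * (s * h b * s) * s * (h c * (s * h d * s) * (bif f then s else 1)) =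
      h a * (s * h b * s) * (s * (h c * (s * h d * s))) * (bif f then s else 1) by group, hc,
      show h a * (s * h b * s) * ((h d * (s * h c * s)) * s) = h a * ((s * h b * s) * h d) * (s * h c * s) * s by group,
      ← hcomm d b,
      show h a * (h d * (s * h b * s)) * (s * h c * s) = h a * h d * (s * h b * (s * s) * h c * s) by group, hs]
    cases f
    · simp [mul_assoc]
    · simp [mul_assoc, hs]

/-- the subgroup with coordinates -/
def wsub (hs : s * s = 1) (hcomm : ∀ u v : D, h u * (s * h v * s) = (s * h v * s) * h u) : Subgroup G where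
  carrier := Set.range (wmap h s)
  one_mem' := ⟨e1, by simp [wmap, e1, hs]⟩
  mul_mem' := by rintro _ _ ⟨g, rfl⟩ ⟨k, rfl⟩; exact ⟨mm g k, wmap_mul h s hs hcomm g k⟩
  inv_mem' := by
    rintro _ ⟨g, rfl⟩
    refine ⟨iv g, eq_inv_of_mul_eq_one_left ?_⟩
    rw [← wmap_mul h s hs hcomm, iv_mm]
    simp [wmap, e1, hs]

/-- its coordinates -/
def wdata (hinj : Function.Injective (wmap h s)) : WData (wsub h s hs hcomm) where
  em := wmap h s
  hom := wmap_mul h s hs hcomm
  inj := hinj
  mem x := Iff.rfl

/-- a renamed copy -/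
def WData.copy {P Q : Subgroup G} (W : WData P) (e : P = Q) : WData Q where
  em := W.em
  hom := W.hom
  inj := W.inj
  mem := by subst e; exact W.mem

section Sylow

open Equiv

def px : Perm (Fin 8) := swap 0 1 * swap 2 3
def py : Perm (Fin 8) := swap 0 2
def ps : Perm (Fin 8) := swap 0 4 * swap 1 5 * swap 2 6 * swap 3 7

def ph : D →* Perm (Fin 8) := dhom px py (by decide) (by decide) (by decide)

theorem ph_comm : ∀ u v : D, ph u * (ps * ph v * ps) = (ps * ph v * ps) * ph u := by decide +kernel

theorem ps_sq : ps * ps = 1 := by decide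

theorem ph_inj : ∀ g : Mod, wmap ph ps g = 1 → g = e1 := by decide +kernel

theorem ph_inj' : Function.Injective (wmap ph ps) := by
  intro g k e
  have h1 : wmap ph ps (mm (iv k) g) = 1 := by
    rw [wmap_mul ph ps ps_sq ph_comm, e, ← wmap_mul ph ps ps_sq ph_comm, iv_mm]
    simp [wmap, e1, ps_sq]
  have h2 := ph_inj _ h1
  have : mm k (mm (iv k) g) = mm k e1 := by rw [h2]
  rw [← mm_assoc] at this
  have key : ∀ x : Mod, mm x (iv x) = e1 ∧ mm x e1 = x := by decide +kernel
  rwa [(key k).1, e1_mm, (key k).2] at this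

/-- coordinates on any subgroup isomorphic to a Sylow 2-subgroup of the symmetric group of degree eight -/
theorem exists_data {S : Type*} [Group S] (P : Subgroup S) (T : Sylow 2 (Perm (Fin 8)))
    (e : ↥P ≃* ↥(T : Subgroup (Perm (Fin 8)))) : Nonempty (WData P) := by
  haveI : Fact (Nat.Prime 2) := ⟨Nat.prime_two⟩
  let W₀ := wdata ph ps ps_sq ph_comm ph_inj'
  let T₀ : Sylow 2 (Perm (Fin 8)) := Sylow.ofCard (wsub ph ps ps_sq ph_comm) (by
    rw [W₀.card, Nat.card_perm, Nat.card_fin, show Nat.factorial 8 = 2 ^ 7 * 315 from rfl,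
      Nat.factorization_mul (by norm_num) (by norm_num), Finsupp.add_apply, Nat.Prime.factorization_pow Nat.prime_two,
      Finsupp.single_eq_same, Nat.factorization_eq_zero_of_not_dvd (by norm_num)]; norm_num)
  let f : ↥(T₀ : Subgroup (Perm (Fin 8))) →* S :=
    P.subtype.comp ((Sylow.equiv T₀ T).trans e.symm).toMonoidHom
  have hf : Function.Injective f := P.subtype_injective.comp ((Sylow.equiv T₀ T).trans e.symm).injective
  refine ⟨(W₀.self.map f fun x _ hx => hf (hx.trans (map_one f).symm)).copy ?_⟩
  ext x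
  constructor
  · rintro ⟨y, -, rfl⟩; exact SetLike.coe_mem _
  · intro hx
    obtain ⟨y, hy⟩ := ((Sylow.equiv T₀ T).trans e.symm).surjective ⟨x, hx⟩
    exact ⟨y, mem_top _, congrArg Subtype.val hy⟩

end Sylow

end Cfsg.Agent.WreathD8
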