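import Cfsg.Agent.WreathD8.Rigid
import Cfsg.Agent.WreathD8.Build

/-!
A double cover of a group of coordinates, extended by an element exchanging the generators, is again of that type
modulo its centre.
-/

set_option autoImplicit false
set_option maxHeartbeats 400000

namespace Cfsg.Agent.WreathD8

open Subgroup

theorem gen_ind (p : Mod → Prop) (hm : ∀ g k, p g → p k → p (mm g k)) (hA : p A₁) (hC : p C₁) (ht : p τ) :
    ∀ g, p g := by
  have h1 : p e1 := by
    have := hm _ _ ht ht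
    rwa [show mm τ τ = e1 from by decide] at this
  have hl : ∀ u : D, p ((u, 1), false) := by
    have hmul : ∀ u v : D, p ((u, 1), false) → p ((v, 1), false) → p ((u * v, 1), false) := fun u v hu hv => by
      simpa [mm] using hm _ _ hu hv
    intro u
    rcases dec_words u with h | h | h | h | h | h | h | h <;> rw [h]
    exacts [h1, hA, hC, hmul _ _ hA hC, hmul _ _ hC hA, hmul _ _ (hmul _ _ hA hC) hA, hmul _ _ (hmul _ _ hC hA) hC,
      hmul _ _ (hmul _ _ hA hC) (hmul _ _ hA hC)]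
  have hb : ∀ u v : D, p ((u, v), false) := fun u v => by
    simpa [mm, τ] using hm _ _ (hl u) (hm _ _ (hm _ _ ht (hl v)) ht)
  rintro ⟨⟨u, v⟩, b⟩
  cases b
  · exact hb u v
  · simpa [mm, τ] using hm _ _ (hb u v) ht

theorem comm_of_gens {G : Type*} [Group G] (h k : D →* G) (haa : Commute (h aD) (k aD)) (hac : Commute (h aD) (k cD))
    (hca : Commute (h cD) (k aD)) (hcc : Commute (h cD) (k cD)) (u v : D) : Commute (h u) (k v) := by
  have one : ∀ (x : G) (f : D →* G), Commute x (f aD) → Commute x (f cD) → ∀ w, Commute x (f w) := by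
    intro x f ha hc w
    rcases dec_words w with e | e | e | e | e | e | e | e <;> rw [e] <;> (try simp only [map_one, map_mul])
    exacts [Commute.one_right x, ha, hc, ha.mul_right hc, hc.mul_right ha, (ha.mul_right hc).mul_right ha,
      (hc.mul_right ha).mul_right hc, (ha.mul_right hc).mul_right (ha.mul_right hc)]
  exact (one _ h (one _ k haa hac v).symm (one _ k hca hcc v).symm u).symm

theorem dec_quot : modZ (mm τ τ) e1 = true ∧
    modZ (mm (mm (mm A₁ (cj τ A₁)) τ) (mm (mm A₁ (cj τ A₁)) τ)) e1 = true ∧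
    modZ (mm (cj τ A₁) (cj τ A₁)) e1 = true ∧
    (let y := mm (mm A₁ (cj τ A₁)) τ
     let r := mm (mm τ (sigM y)) (sigM (mm τ (sigM y)))
     modZ (mm r r) e1 = true) ∧
    (let s := cj τ A₁
     let y := mm (mm A₁ s) τ
     let w := mm (mm s τ) (sigM s)
     modZ (mm (mm s y) s) τ = true ∧ mm τ (sigM τ) = e1 ∧ sigM A₁ = C₁ ∧ sigM C₁ = A₁ ∧ sigM τ = τ ∧
       modZ (mm τ (sigM w)) (mm w (sigM τ)) = true ∧
       modZ (mm y τ) (mm τ y) = true ∧ mm (mm τ s) τ = A₁ ∧ cj τ A₁ = mm (mm τ A₁) τ) := by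
  refine ⟨?_, ?_, ?_, ?_, ?_, ?_, ?_, ?_, ?_, ?_, ?_, ?_, ?_⟩ <;> decide +kernel

variable {S : Type*} [Group S] {P : Subgroup S}

/-- the quotient of an extension by an exchanging element -/
theorem WData.quot [Finite S] (W : WData P) {N : Subgroup S} (hPN : P ≤ N) (hindex : P.relIndex N = 2)
    (K : Subgroup ↥N) [K.Normal] (hK : ∀ x : ↥N, x ∈ K ↔ (x : S) = 1 ∨ (x : S) = W.em zz) {q : S} (hqN : q ∈ N)
    (hqP : q ∉ P) (hq2 : q * q = 1 ∨ q * q = W.em zz) (h1 : W.ModZ (W.em C₁) (q * W.em A₁ * q⁻¹))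
    (h2 : W.ModZ (W.em A₁) (q * W.em C₁ * q⁻¹)) (h3 : W.ModZ (W.em τ) (q * W.em τ * q⁻¹)) :
    Nonempty ((↥N ⧸ K) ≃* ↥P) := by
  obtain ⟨dtt, dyy, dss, dxy, dsys, dττ, dσA, dσC, dσt, dxx, dyt, dts, dA2⟩ := dec_quot
  have hmk : ∀ {x y : ↥N}, W.ModZ (x : S) (y : S) → (x : ↥N ⧸ K) = y := by
    intro x y e
    rw [QuotientGroup.eq, hK, coe_mul, InvMemClass.coe_inv]
    rcases e with e | e <;> rw [e]
    · exact Or.inl (inv_mul_cancel _)
    · exact Or.inr (inv_mul_cancel_left _ _)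
  let π : Mod → ↥N ⧸ K := fun g => ((⟨W.em g, hPN (W.em_mem g)⟩ : ↥N) : ↥N ⧸ K)
  have hπ : ∀ g k, π (mm g k) = π g * π k := fun g k =>
    congrArg (QuotientGroup.mk (s := K)) (Subtype.ext (W.hom g k) : (⟨W.em (mm g k), hPN (W.em_mem _)⟩ : ↥N) =
      ⟨W.em g, hPN (W.em_mem g)⟩ * ⟨W.em k, hPN (W.em_mem k)⟩)
  have hπ1 : π e1 = 1 := congrArg (QuotientGroup.mk (s := K)) (Subtype.ext W.one :
    (⟨W.em e1, hPN (W.em_mem _)⟩ : ↥N) = 1)
  have hπz : ∀ {g k}, modZ g k = true → π g = π k := fun e => hmk (modZ_em W e)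
  let b : ↥N ⧸ K := ((⟨q, hqN⟩ : ↥N) : ↥N ⧸ K)
  have hb : b * b = 1 := by
    change ((⟨q, hqN⟩ * ⟨q, hqN⟩ : ↥N) : ↥N ⧸ K) = 1
    rw [QuotientGroup.eq_one_iff, hK]
    exact hq2
  have hbg : ∀ g, b * π g = π (sigM g) * b := by
    have conv : ∀ {g k}, W.ModZ (W.em k) (q * W.em g * q⁻¹) → b * π g = π k * b := fun {g k} e => by
      refine mul_inv_eq_iff_eq_mul.1 ?_
      exact (hmk (x := ⟨W.em k, hPN (W.em_mem k)⟩)
        (y := ⟨q, hqN⟩ * ⟨W.em g, hPN (W.em_mem g)⟩ * ⟨q, hqN⟩⁻¹) e).symm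
    refine gen_ind _ (fun g k eg ek => ?_) ?_ ?_ ?_
    · have hσ : sigM (mm g k) = mm (sigM g) (sigM k) := by
        rcases g with ⟨⟨a, c⟩, e⟩
        rcases k with ⟨⟨a', c'⟩, e'⟩
        cases e <;> simp [mm, sigM, sigD_facts.1]
      rw [hπ, ← mul_assoc, eg, mul_assoc, ek, hσ, hπ, mul_assoc]
    · rw [dσA]; exact conv h1
    · rw [dσC]; exact conv h2
    · rw [dσt]; exact conv h3
  have hext : ∀ g k, π g * b * (π k * b) = π (mm g (sigM k)) := fun g k => by
    rw [mul_assoc (π g), ← mul_assoc b, hbg, mul_assoc (π (sigM k)), hb, mul_one, hπ]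
  let s₀ : Mod := WreathD8.cj τ A₁
  let y₀ : Mod := mm (mm A₁ s₀) τ
  let x : ↥N ⧸ K := π τ * b
  let y := π y₀
  let s := π s₀
  have hx : x * x = 1 := by rw [hext, dττ, hπ1]
  have hy : y * y = 1 := (hπ _ _).symm.trans ((hπz dyy).trans hπ1)
  have hs : s * s = 1 := (hπ _ _).symm.trans ((hπz dss).trans hπ1)
  have h4 : (x * y) ^ 4 = 1 := by
    have e : x * y = π (mm τ (sigM y₀)) * b := by rw [mul_assoc, hbg, ← mul_assoc, ← hπ]
    rw [e, pow_succ, pow_succ, pow_succ, pow_one, hext, mul_assoc, hext]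
    exact (hπ _ _).symm.trans ((hπz dxy).trans hπ1)
  let h := dhom x y hx hy h4
  obtain ⟨hha, hhc⟩ := dhom_aD x y hx hy h4
  have hsys : s * y * s = π τ := by rw [← hπ, ← hπ]; exact hπz dsys
  have hsinv : s⁻¹ = s := inv_eq_of_mul_eq_one_right hs
  have hsxs : s * x * s = π (mm (mm s₀ τ) (sigM s₀)) * b := by
    rw [← mul_assoc s, mul_assoc _ b, hbg, ← mul_assoc, ← hπ, ← hπ]
  have hcomm : ∀ u v : D, h u * (s * h v * s) = (s * h v * s) * h u := by
    intro u v
    let k : D →* (↥N ⧸ K) := (MulAut.conj s).toMonoidHom.comp h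
    have hk : ∀ w, k w = s * h w * s := fun w => by
      show s * h w * s⁻¹ = _
      rw [hsinv]
    have c1 : Commute x (s * x * s) := by
      rw [hsxs]
      show _ = _
      rw [hext, hext]; exact hπz dxx
    have c2 : Commute x (π τ) := by
      show π τ * b * π τ = π τ * (π τ * b)
      rw [mul_assoc, hbg, dσt]
    have c3 : Commute y (s * x * s) := by
      have e := (c2.symm).map (MulAut.conj s).toMonoidHom
      simp only [MulEquiv.coe_toMonoidHom, MulAut.conj_apply, hsinv] at e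
      rwa [show s * π τ * s = y by rw [← hsys, show s * (s * y * s) * s = (s * s) * y * (s * s) by group, hs,
        one_mul, mul_one]] at e
    have c4 : Commute y (π τ) := by
      show _ = _
      rw [← hπ, ← hπ]; exact hπz dyt
    have := comm_of_gens h k (by rw [hk, hha]; exact c1) (by rw [hk, hha, hhc, hsys]; exact c2)
      (by rw [hk, hha, hhc]; exact c3) (by rw [hk, hhc, hsys]; exact c4) u v
    rwa [hk] at this
  -- the image is everything
  let H := wsub h s hs hcomm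
  have hxH : x ∈ H := ⟨A₁, by show h aD * (s * h 1 * s) * 1 = x; rw [hha, map_one, mul_one s, hs, mul_one, mul_one]⟩
  have hyH : y ∈ H := ⟨C₁, by show h cD * (s * h 1 * s) * 1 = y; rw [hhc, map_one, mul_one s, hs, mul_one, mul_one]⟩
  have hsH : s ∈ H := ⟨τ, by show h 1 * (s * h 1 * s) * s = s; rw [map_one, mul_one s, hs, one_mul, one_mul]⟩
  have htH : π τ ∈ H := hsys ▸ mul_mem (mul_mem hsH hyH) hsH
  have hbH : b ∈ H := by
    have : π τ * x = b := by rw [← mul_assoc, ← hπ, hπz dtt, hπ1, one_mul]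
    exact this ▸ mul_mem htH hxH
  have hAH : π A₁ ∈ H := by
    rw [← dts, hπ, hπ]
    exact mul_mem (mul_mem htH hsH) htH
  have hall : ∀ g, π g ∈ H := by
    refine gen_ind _ (fun g k eg ek => by rw [hπ]; exact mul_mem eg ek) hAH ?_ htH
    have : b * π A₁ * b = π C₁ := by rw [hbg, dσA, mul_assoc, hb, mul_one]
    exact this ▸ mul_mem (mul_mem hbH hAH) hbH
  have hH : H = ⊤ := by
    refine (eq_top_iff' H).2 fun z => ?_
    obtain ⟨⟨z, hz⟩, rfl⟩ := QuotientGroup.mk_surjective z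
    by_cases hzP : z ∈ P
    · obtain ⟨g, rfl⟩ := (W.mem z).1 hzP
      exact hall g
    · have h' : z * q ∈ P := by
        have := (Subgroup.mul_mem_iff_of_index_two hindex (a := (⟨z, hz⟩ : ↥N)) (b := ⟨q, hqN⟩)).2
        simp only [mem_subgroupOf, coe_mul] at this
        exact this (iff_of_false hzP hqP)
      obtain ⟨g, hg⟩ := (W.mem _).1 h'
      have : π g * b = ((⟨z, hz⟩ : ↥N) : ↥N ⧸ K) := by
        rw [show π g = ((⟨z, hz⟩ * ⟨q, hqN⟩ : ↥N) : ↥N ⧸ K) from congrArg _ (Subtype.ext hg),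
          QuotientGroup.mk_mul, mul_assoc, show ((⟨q, hqN⟩ : ↥N) : ↥N ⧸ K) * b = 1 from hb, mul_one]
      exact this ▸ mul_mem (hall g) hbH
  have hcardQ : Nat.card (↥N ⧸ K) = 128 := by
    have hcK : Nat.card K = 2 := by
      have hne : (1 : ↥N) ≠ ⟨W.em zz, hPN (W.em_mem _)⟩ := fun e =>
        absurd (W.inj (W.one.trans (congrArg Subtype.val e))) (by decide)
      rw [← SetLike.coe_sort_coe, Nat.card_coe_set_eq, show (K : Set ↥N) = {1, ⟨W.em zz, hPN (W.em_mem _)⟩} from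
        Set.ext fun x => by
          rw [SetLike.mem_coe, hK, Set.mem_insert_iff, Set.mem_singleton_iff, Subtype.ext_iff, Subtype.ext_iff,
            OneMemClass.coe_one],
        Set.ncard_pair hne]
    have hcN := Subgroup.card_mul_index (P.subgroupOf N)
    rw [← Subgroup.relIndex, hindex, Nat.card_congr (subgroupOfEquivOfLe hPN).toEquiv, W.card] at hcN
    have hcQ := Subgroup.card_eq_card_quotient_mul_card_subgroup K
    rw [hcK] at hcQ
    omega
  have hsurj : Function.Surjective (wmap h s) := fun z => by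
    have : z ∈ H := hH ▸ mem_top z
    exact this
  have hinj : Function.Injective (wmap h s) :=
    ((Nat.bijective_iff_surjective_and_card (wmap h s)).2 ⟨hsurj, by
      rw [hcardQ, Nat.card_congr (Equiv.ofBijective _ W.bij), W.card]⟩).1
  obtain ⟨e⟩ := (wdata h s hs hcomm hinj).iso W
  exact ⟨(topEquiv.symm.trans (MulEquiv.subgroupCongr hH.symm)).trans e⟩

end Cfsg.Agent.WreathD8
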