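import Cfsg.Agent.WreathD8.Data
import Cfsg.Agent.SecFour.RankFive

/-!
In a 2-group of sectional rank four no element outside a wreath product `D₈ ≀ 2` normalises it and fixes one of its
two normal elementary abelian subgroups of order sixteen.
-/

set_option autoImplicit false
set_option maxHeartbeats 400000

namespace Cfsg.Agent.WreathD8

open Subgroup

variable {S : Type*} [Group S] {P : Subgroup S}

theorem dec_prod : ∀ u : D, ∃ x y : D, inA x = true ∧ inC y = true ∧ u = x * y := by decide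

theorem dec_words : ∀ u : D, u = 1 ∨ u = aD ∨ u = cD ∨ u = aD * cD ∨ u = cD * aD ∨ u = aD * cD * aD ∨
    u = cD * aD * cD ∨ u = aD * cD * (aD * cD) := by decide

theorem dec_flagged : ∀ u v : D, mm ((u, v), true) ((u, v), true) = e1 →
    ∃ p : Mod, mm ((u, v), true) (cj p ((u, v), true)) ≠ mm (cj p ((u, v), true)) ((u, v), true) := by
  decide +kernel

theorem dec_neq : ∃ g : Mod, inVA g = true ∧ inVC g = false := ⟨A₁, by decide, by decide⟩

theorem card_inVA : Fintype.card {g : Mod // inVA g = true} = 16 := by decide +kernel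

theorem card_inVC : Fintype.card {g : Mod // inVC g = true} = 16 := by decide +kernel

theorem WData.VA_ne_VC (W : WData P) : W.VA ≠ W.VC := by
  intro h
  obtain ⟨g, hA, hC⟩ := dec_neq
  obtain ⟨g', hg', e⟩ : W.em g ∈ W.VC := h ▸ ⟨g, hA, rfl⟩
  rw [W.inj e] at hg'
  exact absurd (hC.symm.trans hg') (by decide)

theorem WData.ncard_VA (W : WData P) : W.VA.ncard = 16 := by
  rw [WData.VA, Set.ncard_image_of_injective _ W.inj, ← Nat.card_coe_set_eq, Nat.card_eq_fintype_card]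
  exact card_inVA

theorem WData.ncard_VC (W : WData P) : W.VC.ncard = 16 := by
  rw [WData.VC, Set.ncard_image_of_injective _ W.inj, ← Nat.card_coe_set_eq, Nat.card_eq_fintype_card]
  exact card_inVC

/-- the classification of the normal elementary abelian subgroups of order sixteen -/
theorem WData.normal_cases (W : WData P) {X : Set S} (hXP : ∀ x ∈ X, x ∈ P) (hc : ∀ x ∈ X, ∀ y ∈ X, x * y = y * x)
    (hsq : ∀ x ∈ X, x * x = 1) (hinv : ∀ p ∈ P, ∀ x ∈ X, p * x * p⁻¹ ∈ X) (h16 : X.ncard = 16) :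
    X = W.VA ∨ X = W.VC := by
  have hflag : ∀ g, W.em g ∈ X → g.2 = false := by
    rintro ⟨⟨u, v⟩, b⟩ hg
    cases b
    · rfl
    exfalso
    obtain ⟨p, hp⟩ := dec_flagged u v (W.inj (by rw [W.hom, hsq _ hg, W.one]))
    refine hp ((W.comm_iff _ _).1 ?_)
    rw [W.cj]
    exact hc _ hg _ (hinv _ (W.em_mem p) _ hg)
  have hswap : ∀ g, W.em g ∈ X → W.em ((g.1.2, g.1.1), false) ∈ X := by
    intro g hg
    have h := hinv _ (W.em_mem τ) _ hg
    rw [← W.cj] at h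
    convert h using 2
    rcases g with ⟨⟨u, v⟩, b⟩
    obtain rfl : b = false := hflag _ hg
    simp [WreathD8.cj, mm, iv, τ]
  -- the coordinates involved
  let P₁ : D → Prop := fun u => ∃ g, W.em g ∈ X ∧ g.1.1 = u
  have hP1 : ∀ g, W.em g ∈ X → P₁ g.1.1 ∧ P₁ g.1.2 := fun g hg => ⟨⟨g, hg, rfl⟩, ⟨_, hswap g hg, rfl⟩⟩
  have hP2 : ∀ u v, P₁ u → P₁ v → u * v = v * u := by
    rintro u v ⟨⟨⟨a, b⟩, f⟩, hg, rfl⟩ ⟨⟨⟨x, y⟩, f'⟩, hh, rfl⟩
    obtain rfl : f = false := hflag _ hg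
    obtain rfl : f' = false := hflag _ hh
    have := (W.comm_iff _ _).1 (hc _ hg _ hh)
    simp [mm] at this
    exact this.1
  have hP3 : ∀ u, P₁ u → u * u = 1 := by
    rintro u ⟨⟨⟨a, b⟩, f⟩, hg, rfl⟩
    obtain rfl : f = false := hflag _ hg
    have : mm ((a, b), false) ((a, b), false) = e1 := W.inj (by rw [W.hom, hsq _ hg, W.one])
    simp [mm, e1] at this
    exact this.1
  have hfin : ∀ {Y : Set S}, Y.ncard = 16 → Y.Finite := fun h => Set.finite_of_ncard_ne_zero (by omega)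
  by_cases hA : ∀ u, P₁ u → inA u = true
  · left
    refine Set.eq_of_subset_of_ncard_le (fun x hx => ?_) (by rw [W.ncard_VA, h16]) (hfin W.ncard_VA)
    obtain ⟨g, rfl⟩ := (W.mem x).1 (hXP x hx)
    exact ⟨g, by simp [inVA, hflag g hx, hA _ (hP1 g hx).1, hA _ (hP1 g hx).2], rfl⟩
  · right
    push Not at hA
    obtain ⟨u, hu, hua⟩ := hA
    have hC : ∀ v, P₁ v → inC v = true := fun v hv => by
      by_contra hvc
      exact dec_pair u v (hP3 u hu) (hP3 v hv) (by simpa using hua) (by simpa using hvc) (hP2 u v hu hv)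
    refine Set.eq_of_subset_of_ncard_le (fun x hx => ?_) (by rw [W.ncard_VC, h16]) (hfin W.ncard_VC)
    obtain ⟨g, rfl⟩ := (W.mem x).1 (hXP x hx)
    exact ⟨g, by simp [inVC, hflag g hx, hC _ (hP1 g hx).1, hC _ (hP1 g hx).2], rfl⟩

theorem dec_VA : ∀ g h : Mod, inVA g = true → inVA h = true → mm g h = mm h g ∧ mm g g = e1 := by decide +kernel

theorem dec_VA_inv : ∀ p g : Mod, inVA g = true → inVA (cj p g) = true := by decide +kernel

theorem WData.VA_props (W : WData P) : (∀ x ∈ W.VA, x ∈ P) ∧ (∀ x ∈ W.VA, ∀ y ∈ W.VA, x * y = y * x) ∧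
    (∀ x ∈ W.VA, x * x = 1) ∧ ∀ p ∈ P, ∀ x ∈ W.VA, p * x * p⁻¹ ∈ W.VA := by
  refine ⟨?_, ?_, ?_, ?_⟩
  · rintro _ ⟨g, -, rfl⟩; exact W.em_mem g
  · rintro _ ⟨g, hg, rfl⟩ _ ⟨h, hh, rfl⟩
    exact (W.comm_iff _ _).2 (dec_VA g h hg hh).1
  · rintro _ ⟨g, hg, rfl⟩
    rw [← W.hom, (dec_VA g g hg hg).2, W.one]
  · rintro p hp _ ⟨g, hg, rfl⟩
    obtain ⟨k, rfl⟩ := (W.mem p).1 hp
    exact ⟨WreathD8.cj k g, dec_VA_inv k g hg, W.cj k g⟩

/-- the two subgroups of another coordinate system -/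
theorem WData.V_cases (W W' : WData P) :
    (W'.VA = W.VA ∧ W'.VC = W.VC) ∨ (W'.VA = W.VC ∧ W'.VC = W.VA) := by
  obtain ⟨h1, h2, h3, h4⟩ := W'.VA_props
  obtain ⟨k1, k2, k3, k4⟩ := W'.swap.VA_props
  rw [W'.swap_VA] at k1 k2 k3 k4
  rcases W.normal_cases h1 h2 h3 h4 W'.ncard_VA with e | e <;>
    rcases W.normal_cases k1 k2 k3 k4 W'.ncard_VC with e' | e'
  · exact absurd (e.trans e'.symm) W'.VA_ne_VC
  · exact Or.inl ⟨e, e'⟩
  · exact Or.inr ⟨e, e'⟩
  · exact absurd (e.trans e'.symm) W'.VA_ne_VC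

/-- congruence modulo the centre of `P` -/
def WData.ModZ (W : WData P) (x y : S) : Prop := y = x ∨ y = x * W.em zz

theorem modZ_em (W : WData P) {g h : Mod} (e : modZ g h = true) : W.ModZ (W.em g) (W.em h) := by
  have key : ∀ k : Mod, mm (mm k zz) zz = k := by decide +kernel
  simp only [modZ, Bool.or_eq_true, beq_iff_eq] at e
  rcases e with rfl | rfl
  · exact Or.inl rfl
  · exact Or.inr (by rw [← W.hom, key])

/-- two coordinate systems with the same distinguished subgroups agree up to conjugation modulo the centre -/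
theorem WData.compare (W W' : WData P) (hA : W'.VA = W.VA) (hC : W'.VC = W.VC) :
    ∃ p ∈ P, W.ModZ (p * W.em A₁ * p⁻¹) (W'.em A₁) ∧ W.ModZ (p * W.em C₁ * p⁻¹) (W'.em C₁) ∧
      W.ModZ (p * W.em τ * p⁻¹) (W'.em τ) := by
  obtain ⟨⟨⟨a, a'⟩, fa⟩, hga, ea⟩ : W'.em A₁ ∈ W.VA := hA ▸ ⟨A₁, by decide, rfl⟩
  obtain ⟨⟨⟨c, c'⟩, fc⟩, hgc, ec⟩ : W'.em C₁ ∈ W.VC := hC ▸ ⟨C₁, by decide, rfl⟩
  obtain ⟨r, er⟩ := (W.mem _).1 (W'.em_mem τ)
  simp only [Set.mem_ofPred_eq, inVA, inVC, Bool.and_eq_true, Bool.not_eq_true'] at hga hgc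
  obtain ⟨⟨rfl, ha⟩, ha'⟩ := hga
  obtain ⟨⟨rfl, hc⟩, hc'⟩ := hgc
  obtain ⟨⟨u, v⟩, b⟩ := r
  have hb : b = true := by
    by_contra hb
    obtain rfl : b = false := by simpa using hb
    obtain ⟨x, y, hx, hy, rfl⟩ := dec_prod u
    obtain ⟨x', y', hx', hy', rfl⟩ := dec_prod v
    have e1' : W.em ((x, x'), false) ∈ W'.VA := hA.symm ▸ ⟨_, by simp [inVA, hx, hx'], rfl⟩
    have e2' : W.em ((y, y'), false) ∈ W'.VC := hC.symm ▸ ⟨_, by simp [inVC, hy, hy'], rfl⟩
    obtain ⟨g, hg, eg⟩ := e1'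
    obtain ⟨h, hh, eh⟩ := e2'
    have : τ = mm g h := W'.inj (by
      rw [W'.hom, eg, eh, ← W.hom, ← er]
      simp [mm])
    rcases g with ⟨g, f⟩
    rcases h with ⟨h, f'⟩
    simp [inVA, inVC] at hg hh
    simp [hg.1.1, hh.1.1, mm, τ] at this
  subst hb
  obtain rfl : v = u⁻¹ := by
    have h : mm ((u, v), true) ((u, v), true) = e1 := W.inj (by
      rw [W.hom, er, ← W'.hom, W.one, ← W'.one]; congr 1)
    simp [mm, e1] at h
    exact eq_inv_of_mul_eq_one_right h.1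
  have hcomm : ∀ {g h : Mod} {g' h' : Mod}, W.em g = W'.em g' → W.em h = W'.em h' → mm g' h' = mm h' g' →
      mm g h = mm h g := fun eg eh e => (W.comm_iff _ _).1 (by rw [eg, eh]; exact (W'.comm_iff _ _).2 e)
  have hcj : ∀ {g h : Mod} {g' h' : Mod}, W.em g = W'.em g' → W.em h = W'.em h' →
      W.em (WreathD8.cj g h) = W'.em (WreathD8.cj g' h') := fun eg eh => by rw [W.cj, W'.cj, eg, eh]
  have hmm : ∀ {g h : Mod} {g' h' : Mod}, W.em g = W'.em g' → W.em h = W'.em h' →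
      W.em (mm g h) = W'.em (mm g' h') := fun eg eh => by rw [W.hom, W'.hom, eg, eh]
  rcases dec_norm a a' c c' u ha ha' hc hc' with h | h | h | h | h | ⟨p, hp1, hp2, hp3⟩
  · exfalso
    have := (hmm (hmm ea ec) (hmm ea ec)).symm
    rw [h, W.one, ← W'.one] at this
    exact absurd (W'.inj this) (by decide)
  · exact absurd (hcomm ea (hcj er ea) (by decide)) h
  · exact absurd (hcomm ea (hcj er ec) (by decide)) h
  · exact absurd (hcomm ec (hcj er ec) (by decide)) h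
  · exfalso
    have h1 := hmm (hmm ea ec) (hmm ea ec)
    have h2 := hcj er h1
    rw [← congrArg W.em h, h1] at h2
    exact absurd (W'.inj h2) (by decide)
  · refine ⟨W.em p, W.em_mem p, ?_, ?_, ?_⟩
    · rw [← W.cj, ← ea]; exact modZ_em W hp1
    · rw [← W.cj, ← ec]; exact modZ_em W hp2
    · rw [← W.cj, ← er]; exact modZ_em W hp3

theorem dec_centre_mem : ∀ g : Mod, mm zz g = mm g zz ∧ mm zz zz = e1 := by decide +kernel

theorem WData.zz_sq (W : WData P) : W.em zz * W.em zz = 1 := by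
  rw [← W.hom, (dec_centre_mem e1).2, W.one]

theorem WData.zz_comm (W : WData P) {p : S} (hp : p ∈ P) : W.em zz * p = p * W.em zz := by
  obtain ⟨g, rfl⟩ := (W.mem p).1 hp
  exact (W.comm_iff _ _).2 (dec_centre_mem g).1

/-- conjugation gives new coordinates -/
def WData.conj (W : WData P) {n : S} (hn : n ∈ Subgroup.normalizer (P : Set S)) : WData P where
  em g := n * W.em g * n⁻¹
  hom g h := by rw [W.hom]; group
  inj g h e := W.inj (by simpa using e)
  mem x := by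
    constructor
    · intro hx
      obtain ⟨g, hg⟩ := (W.mem (n⁻¹ * x * n)).1 ((mem_normalizer_iff.1 hn _).2 (by simpa [mul_assoc] using hx))
      exact ⟨g, by rw [hg]; group⟩
    · rintro ⟨g, rfl⟩
      exact (mem_normalizer_iff.1 hn _).1 (W.em_mem g)

theorem WData.conj_VA (W : WData P) {n : S} (hn : n ∈ Subgroup.normalizer (P : Set S)) :
    (W.conj hn).VA = (fun x => n * x * n⁻¹) '' W.VA := by
  rw [WData.VA, WData.VA, Set.image_image]
  rfl

def isN (g : Mod) : Bool := !g.2 && (g.1.1 == 1 || g.1.1 == zD) && (g.1.2 == 1 || g.1.2 == zD)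

theorem dec_N : (∀ g h : Mod, isN g = true → isN h = true → isN (mm g h) = true) ∧ isN e1 = true ∧
    (∀ g : Mod, isN g = true → isN (iv g) = true) ∧ (∀ g h : Mod, isN g = true → h.2 = false → mm g h = mm h g) ∧
    (∀ g : Mod, g.2 = false → isN (mm g g) = true) ∧ isN zz = true ∧
    (∀ g : Mod, isN g = true → g = e1 ∨ g = ((zD, 1), false) ∨ g = mm ((zD, 1), false) zz ∨ g = zz) ∧
    (∀ g : Mod, isN g = true → g.2 = false ∧ isN (cj τ g) = true) ∧
    Fintype.card {g : Mod // isN g = true} = 4 := by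
  refine ⟨?_, ?_, ?_, ?_, ?_, ?_, ?_, ?_, ?_⟩ <;> decide +kernel

theorem dec_z1 : mm (mm A₁ C₁) (mm A₁ C₁) = ((zD, 1), false) ∧ mm ((zD, 1), false) (cj τ ((zD, 1), false)) = zz ∧
    Fintype.card {g : Mod // g.2 = false} = 64 := by
  decide +kernel

/-- adjusting an element normalising `P` and fixing a distinguished subgroup -/
theorem WData.adjust (W : WData P) (W' : WData P) (hA : W'.VA = W.VA) (hC : W'.VC = W.VC) {n : S}
    (hW' : ∀ g, W'.em g = n * W.em g * n⁻¹) :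
    ∃ q, q * n⁻¹ ∈ P ∧ W.ModZ (W.em A₁) (q * W.em A₁ * q⁻¹) ∧ W.ModZ (W.em C₁) (q * W.em C₁ * q⁻¹) ∧
      W.ModZ (W.em τ) (q * W.em τ * q⁻¹) := by
  obtain ⟨p, hp, h1, h2, h3⟩ := W.compare W' hA hC
  refine ⟨p⁻¹ * n, by simpa using inv_mem hp, ?_, ?_, ?_⟩
  · rw [show p⁻¹ * n * W.em A₁ * (p⁻¹ * n)⁻¹ = p⁻¹ * (n * W.em A₁ * n⁻¹) * p by group, ← hW']
    rcases h1 with h | h <;> rw [h]
    · exact Or.inl (by group)
    · exact Or.inr (by rw [mul_assoc p⁻¹, mul_assoc (p * W.em A₁ * p⁻¹), W.zz_comm hp]; group)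
  · rw [show p⁻¹ * n * W.em C₁ * (p⁻¹ * n)⁻¹ = p⁻¹ * (n * W.em C₁ * n⁻¹) * p by group, ← hW']
    rcases h2 with h | h <;> rw [h]
    · exact Or.inl (by group)
    · exact Or.inr (by rw [mul_assoc p⁻¹, mul_assoc (p * W.em C₁ * p⁻¹), W.zz_comm hp]; group)
  · rw [show p⁻¹ * n * W.em τ * (p⁻¹ * n)⁻¹ = p⁻¹ * (n * W.em τ * n⁻¹) * p by group, ← hW']
    rcases h3 with h | h <;> rw [h]
    · exact Or.inl (by group)
    · exact Or.inr (by rw [mul_assoc p⁻¹, mul_assoc (p * W.em τ * p⁻¹), W.zz_comm hp]; group)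

/-- an element acting trivially modulo the centre squares into the centre -/
theorem WData.fixes (W : WData P) {q : S} (hq2 : q * q ∈ P)
    (h1 : W.ModZ (W.em A₁) (q * W.em A₁ * q⁻¹)) (h2 : W.ModZ (W.em C₁) (q * W.em C₁ * q⁻¹))
    (h3 : W.ModZ (W.em τ) (q * W.em τ * q⁻¹)) :
    q * W.em ((zD, 1), false) * q⁻¹ = W.em ((zD, 1), false) ∧ q * W.em zz * q⁻¹ = W.em zz ∧
      (q * q = 1 ∨ q * q = W.em zz) := by
  have cz := fun g => W.zz_comm (W.em_mem g)
  have hz2 := W.zz_sq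
  have hprod : ∀ {x y : S}, x ∈ P → y ∈ P → W.ModZ x (q * x * q⁻¹) → W.ModZ y (q * y * q⁻¹) →
      W.ModZ (x * y) (q * (x * y) * q⁻¹) := by
    intro x y hx hy ex ey
    rw [show q * (x * y) * q⁻¹ = q * x * q⁻¹ * (q * y * q⁻¹) by group]
    rcases ex with e | e <;> rcases ey with e' | e' <;> rw [e, e']
    · exact Or.inl rfl
    · exact Or.inr (by rw [mul_assoc])
    · exact Or.inr (by rw [mul_assoc, W.zz_comm hy, ← mul_assoc])
    · refine Or.inl ?_
      rw [mul_assoc x, ← mul_assoc (W.em zz), W.zz_comm hy, mul_assoc y, hz2, mul_one]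
  have hsqfix : ∀ {x : S}, x ∈ P → W.ModZ x (q * x * q⁻¹) → q * (x * x) * q⁻¹ = x * x := by
    intro x hx ex
    rw [show q * (x * x) * q⁻¹ = q * x * q⁻¹ * (q * x * q⁻¹) by group]
    rcases ex with e | e <;> rw [e]
    rw [mul_assoc x, ← mul_assoc (W.em zz), W.zz_comm hx, mul_assoc x (W.em zz), hz2, mul_one]
  have hz1 : q * W.em ((zD, 1), false) * q⁻¹ = W.em ((zD, 1), false) := by
    rw [← dec_z1.1, W.hom]
    refine hsqfix (W.em_mem _) ?_
    rw [W.hom]
    exact hprod (W.em_mem _) (W.em_mem _) h1 h2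
  have hzz : q * W.em zz * q⁻¹ = W.em zz := by
    rw [← dec_z1.2.1, W.hom, W.cj,
      show q * (W.em ((zD, 1), false) * (W.em τ * W.em ((zD, 1), false) * (W.em τ)⁻¹)) * q⁻¹ =
        (q * W.em ((zD, 1), false) * q⁻¹) * ((q * W.em τ * q⁻¹) * (q * W.em ((zD, 1), false) * q⁻¹) * (q * W.em τ * q⁻¹)⁻¹)
        by group, hz1]
    rcases h3 with e | e <;> rw [e]
    rw [mul_inv_rev, mul_assoc (W.em τ) (W.em zz), W.zz_comm (W.em_mem _)]
    group
  have htwice : ∀ {x : S}, W.ModZ x (q * x * q⁻¹) → q * q * x = x * (q * q) := by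
    intro x ex
    refine mul_inv_eq_iff_eq_mul.1 ?_
    rw [show q * q * x * (q * q)⁻¹ = q * (q * x * q⁻¹) * q⁻¹ by group]
    rcases ex with e | e <;> rw [e]
    · exact e
    · rw [show q * (x * W.em zz) * q⁻¹ = q * x * q⁻¹ * (q * W.em zz * q⁻¹) by group, e, hzz, mul_assoc, hz2, mul_one]
  obtain ⟨g, hg⟩ := (W.mem _).1 hq2
  refine ⟨hz1, hzz, ?_⟩
  rcases dec_center g ((W.comm_iff _ _).1 (by rw [hg]; exact htwice h1))
    ((W.comm_iff _ _).1 (by rw [hg]; exact htwice h2)) ((W.comm_iff _ _).1 (by rw [hg]; exact htwice h3)) with rfl | rfl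
  · exact Or.inl (hg.symm.trans W.one)
  · exact Or.inr hg.symm

open Cfsg.Agent.SecFour in
/-- the rigidity statement -/
theorem WData.five [Finite S] (h4 : Cfsg.SectionalPRankLE 2 4 S) (W : WData P) {n : S}
    (hn : n ∈ Subgroup.normalizer (P : Set S)) (hnP : n ∉ P) (hn2 : n * n ∈ P)
    (hfix : (W.conj hn).VA = W.VA) : False := by
  have hC : (W.conj hn).VC = W.VC := by
    rcases W.V_cases (W.conj hn) with h | h
    · exact h.2
    · exact absurd (hfix.symm.trans h.1) W.VA_ne_VC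
  obtain ⟨q, hq, h1, h2, h3⟩ := W.adjust (W.conj hn) hfix hC fun g => rfl
  have hqP : q ∉ P := fun h => hnP (by simpa using mul_mem (inv_mem hq) h)
  have hq2 : q * q ∈ P := by
    rw [show q * q = q * n⁻¹ * (n * (q * n⁻¹) * n⁻¹) * (n * n) by group]
    exact mul_mem (mul_mem hq ((mem_normalizer_iff.1 hn _).1 hq)) hn2
  obtain ⟨hz1, hzz, hsq⟩ := W.fixes hq2 h1 h2 h3
  let z1 : Mod := ((zD, 1), false)
  obtain ⟨dmul, done, dinv, dcomm, dsq, dzz, dlist, dconj, dcard⟩ := dec_N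
  let N : Subgroup S :=
    { carrier := W.em '' {g | isN g = true}
      one_mem' := ⟨e1, done, W.one⟩
      mul_mem' := by rintro _ _ ⟨g, hg, rfl⟩ ⟨h, hh, rfl⟩; exact ⟨_, dmul g h hg hh, W.hom g h⟩
      inv_mem' := by rintro _ ⟨g, hg, rfl⟩; exact ⟨_, dinv g hg, W.inv g⟩ }
  let B : Subgroup S :=
    { carrier := W.em '' {g | g.2 = false}
      one_mem' := ⟨e1, rfl, W.one⟩
      mul_mem' := by rintro _ _ ⟨g, hg, rfl⟩ ⟨h, hh, rfl⟩; exact ⟨_, by simp_all [mm], W.hom g h⟩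
      inv_mem' := by rintro _ ⟨g, hg, rfl⟩; exact ⟨_, by simpa [iv] using hg, W.inv g⟩ }
  have E0 : Elem N B := by
    refine ⟨?_, ?_, ?_⟩
    · rintro _ ⟨g, hg, rfl⟩; exact ⟨g, (dconj g hg).1, rfl⟩
    · rintro _ ⟨g, hg, rfl⟩ _ ⟨h, hh, rfl⟩
      exact ((W.comm_iff _ _).2 (dcomm h g hh hg)).symm
    · rintro _ ⟨g, hg, rfl⟩
      exact ⟨_, dsq g hg, W.hom g g⟩
  have hqN : ∀ x ∈ N, q * x = x * q := by
    rintro _ ⟨g, hg, rfl⟩
    refine mul_inv_eq_iff_eq_mul.1 ?_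
    rcases dlist g hg with rfl | rfl | rfl | rfl
    · rw [W.one]; group
    · exact hz1
    · rw [W.hom, show q * (W.em z1 * W.em zz) * q⁻¹ = q * W.em z1 * q⁻¹ * (q * W.em zz * q⁻¹) by group, hz1, hzz]
    · exact hzz
  have hzzN : W.em zz ∈ N := ⟨zz, dzz, rfl⟩
  have hq2N : q * q ∈ N := by
    rcases hsq with e | e <;> rw [e]
    exacts [one_mem N, hzzN]
  have hbase : ∀ {x : S}, x ∈ P → W.ModZ x (q * x * q⁻¹) → CommMod N q x := by
    intro x hx ex
    show q * x * q⁻¹ * x⁻¹ ∈ N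
    rcases ex with e | e <;> rw [e]
    · rw [mul_inv_cancel]; exact one_mem N
    · rw [mul_assoc x, W.zz_comm (inv_mem hx), ← mul_assoc, mul_inv_cancel, one_mul]; exact hzzN
  have hmul : ∀ {g h : Mod}, g.2 = false → CommMod N q (W.em g) → CommMod N q (W.em h) → CommMod N q (W.em (mm g h)) :=
    fun {g h} hg eg eh => by rw [W.hom]; exact CommMod.mul (E0.cen _ ⟨g, hg, rfl⟩) eg eh
  have hone : CommMod N q (W.em e1) := by
    show q * W.em e1 * q⁻¹ * (W.em e1)⁻¹ ∈ N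
    rw [W.one]; simp [one_mem N]
  have ha1 : CommMod N q (W.em A₁) := hbase (W.em_mem _) h1
  have hc1 : CommMod N q (W.em C₁) := hbase (W.em_mem _) h2
  have hleft : ∀ u : D, CommMod N q (W.em ((u, 1), false)) := by
    have base : ∀ u, u = aD ∨ u = cD → CommMod N q (W.em ((u, 1), false)) := by
      rintro u (rfl | rfl)
      exacts [ha1, hc1]
    have hm : ∀ {u v : D}, CommMod N q (W.em ((u, 1), false)) → CommMod N q (W.em ((v, 1), false)) →
        CommMod N q (W.em ((u * v, 1), false)) := fun {u v} eu ev => by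
      have := hmul (g := ((u, 1), false)) (h := ((v, 1), false)) rfl eu ev
      simpa [mm] using this
    intro u
    have a := base aD (Or.inl rfl)
    have c := base cD (Or.inr rfl)
    rcases dec_words u with h | h | h | h | h | h | h | h <;> rw [h]
    exacts [hone, a, c, hm a c, hm c a, hm (hm a c) a, hm (hm c a) c, hm (hm a c) (hm a c)]
  have hright : ∀ u : D, CommMod N q (W.em ((1, u), false)) := by
    intro u
    have key : ∀ u : D, ((1, u), false) = WreathD8.cj τ ((u, 1), false) := by decide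
    rw [key u, W.cj]
    obtain ⟨g, hg, eg⟩ := hleft u
    have hqx : q * W.em ((u, 1), false) * q⁻¹ = W.em g * W.em ((u, 1), false) := by rw [eg]; group
    show q * (W.em τ * W.em ((u, 1), false) * (W.em τ)⁻¹) * q⁻¹ *
      (W.em τ * W.em ((u, 1), false) * (W.em τ)⁻¹)⁻¹ ∈ N
    have hconjN : ∀ g : Mod, isN g = true → isN (WreathD8.cj τ g) = true := fun g hg => (dconj g hg).2
    have hτ : q * W.em τ * q⁻¹ * (W.em τ)⁻¹ = 1 ∨ q * W.em τ * q⁻¹ * (W.em τ)⁻¹ = W.em zz := by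
      rcases h3 with e | e <;> rw [e]
      · exact Or.inl (mul_inv_cancel _)
      · exact Or.inr (by rw [mul_assoc, W.zz_comm (inv_mem (W.em_mem τ)), ← mul_assoc, mul_inv_cancel, one_mul])
    have hzcom : ∀ {y : S}, y ∈ P → W.em zz * y * (W.em zz)⁻¹ = y := fun hy => by
      rw [W.zz_comm hy, mul_inv_cancel_right]
    rw [show q * (W.em τ * W.em ((u, 1), false) * (W.em τ)⁻¹) * q⁻¹ *
        (W.em τ * W.em ((u, 1), false) * (W.em τ)⁻¹)⁻¹ =
        (q * W.em τ * q⁻¹ * (W.em τ)⁻¹) * (W.em τ * (q * W.em ((u, 1), false) * q⁻¹) * (W.em τ)⁻¹) *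
          (q * W.em τ * q⁻¹ * (W.em τ)⁻¹)⁻¹ * (W.em τ * (W.em ((u, 1), false))⁻¹ * (W.em τ)⁻¹) by group, hqx]
    have hin : W.em τ * (W.em g * W.em ((u, 1), false)) * (W.em τ)⁻¹ ∈ P :=
      mul_mem (mul_mem (W.em_mem _) (mul_mem (W.em_mem _) (W.em_mem _))) (inv_mem (W.em_mem _))
    rcases hτ with e | e <;> rw [e]
    · refine ⟨WreathD8.cj τ g, hconjN g hg, ?_⟩
      rw [W.cj]; group
    · refine ⟨WreathD8.cj τ g, hconjN g hg, ?_⟩
      rw [hzcom hin, W.cj]; group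
  have hqB : ∀ k ∈ B, CommMod N q k := by
    rintro _ ⟨⟨⟨u, v⟩, b⟩, hb, rfl⟩
    obtain rfl : b = false := hb
    have := hmul (g := ((u, 1), false)) (h := ((1, v), false)) rfl (hleft u) (hright v)
    simpa [mm] using this
  have hqB' : q ∉ B := fun h => hqP (by obtain ⟨g, -, rfl⟩ := h; exact W.em_mem g)
  obtain ⟨K, EK, -, -, -, hK⟩ := E0.extend hqN hq2N hqB hqB'
  have hcB : Nat.card B = 64 := by
    show Nat.card ↥(W.em '' {g | g.2 = false}) = 64
    rw [Nat.card_coe_set_eq, Set.ncard_image_of_injective _ W.inj, ← Nat.card_coe_set_eq, Nat.card_eq_fintype_card]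
    exact dec_z1.2.2
  have hcN : Nat.card N = 4 := by
    show Nat.card ↥(W.em '' {g | isN g = true}) = 4
    rw [Nat.card_coe_set_eq, Set.ncard_image_of_injective _ W.inj, ← Nat.card_coe_set_eq, Nat.card_eq_fintype_card]
    exact dcard
  have := rank_bound h4 K N EK.le (fun k hk n hn => by rw [EK.cen k hk n hn, mul_inv_cancel_right]; exact hn) EK.sq
  rw [hcN] at this
  rw [hcB] at hK
  omega

end Cfsg.Agent.WreathD8
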