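import Cfsg.Agent.WreathD8.Model

/-!
Coordinate systems on subgroups isomorphic to the wreath product of the dihedral group of order eight by two.
-/

set_option autoImplicit false
set_option maxHeartbeats 400000

namespace Cfsg.Agent.WreathD8

open Subgroup

variable {S S' : Type*} [Group S] [Group S']

theorem mm_assoc (g h k : Mod) : mm (mm g h) k = mm g (mm h k) := by
  rcases g with ⟨⟨a, b⟩, e⟩
  rcases h with ⟨⟨c, d⟩, f⟩
  rcases k with ⟨⟨x, y⟩, w⟩
  cases e <;> cases f <;> cases w <;> simp [mm, mul_assoc]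

theorem e1_mm (g : Mod) : mm e1 g = g := by
  rcases g with ⟨⟨a, b⟩, e⟩
  simp [mm, e1]

theorem iv_mm (g : Mod) : mm (iv g) g = e1 := by
  rcases g with ⟨⟨a, b⟩, e⟩
  cases e <;> simp [mm, iv, e1]

/-- a coordinate system on `P` -/
structure WData (P : Subgroup S) where
  em : Mod → S
  hom : ∀ g h, em (mm g h) = em g * em h
  inj : Function.Injective em
  mem : ∀ x, x ∈ P ↔ ∃ g, em g = x

variable {P : Subgroup S}

theorem WData.one (W : WData P) : W.em e1 = 1 := by
  have := W.hom e1 e1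
  rw [e1_mm] at this
  exact mul_eq_left.1 this.symm

theorem WData.inv (W : WData P) (g : Mod) : W.em (iv g) = (W.em g)⁻¹ := by
  have := W.hom (iv g) g
  rw [iv_mm, W.one] at this
  exact eq_inv_of_mul_eq_one_left this.symm

theorem WData.cj (W : WData P) (p g : Mod) : W.em (cj p g) = W.em p * W.em g * (W.em p)⁻¹ := by
  rw [WreathD8.cj, W.hom, W.hom, W.inv]

theorem WData.em_mem (W : WData P) (g : Mod) : W.em g ∈ P := (W.mem _).2 ⟨g, rfl⟩

theorem WData.comm_iff (W : WData P) (g h : Mod) : W.em g * W.em h = W.em h * W.em g ↔ mm g h = mm h g := by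
  rw [← W.hom, ← W.hom, W.inj.eq_iff]

theorem WData.card (W : WData P) : Nat.card P = 128 := by
  rw [Nat.card_congr (Equiv.ofBijective (fun g : Mod => (⟨W.em g, W.em_mem g⟩ : ↥P)) ⟨fun g h e =>
    W.inj (congrArg Subtype.val e), fun x => by obtain ⟨g, hg⟩ := (W.mem _).1 x.2; exact ⟨g, Subtype.ext hg⟩⟩).symm,
    Nat.card_prod, Nat.card_prod, Nat.card_eq_fintype_card, Nat.card_eq_fintype_card (α := Bool)]
  rfl

/-- transport along a homomorphism injective on `P` -/
def WData.map (W : WData P) (f : S →* S') (hf : ∀ x ∈ P, f x = 1 → x = 1) : WData (P.map f) where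
  em g := f (W.em g)
  hom g h := by rw [W.hom, map_mul]
  inj g h e := W.inj (mul_inv_eq_one.1 (hf _ (mul_mem (W.em_mem g) (inv_mem (W.em_mem h)))
    (by change f (W.em g) = f (W.em h) at e; rw [map_mul, map_inv, e, mul_inv_cancel])))
  mem x := by
    constructor
    · rintro ⟨y, hy, rfl⟩
      obtain ⟨g, rfl⟩ := (W.mem y).1 hy
      exact ⟨g, rfl⟩
    · rintro ⟨g, rfl⟩
      exact ⟨_, W.em_mem g, rfl⟩

/-- pull back to the group `P` itself -/
def WData.self (W : WData P) : WData (⊤ : Subgroup ↥P) where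
  em g := ⟨W.em g, W.em_mem g⟩
  hom g h := Subtype.ext (W.hom g h)
  inj g h e := W.inj (congrArg Subtype.val e)
  mem x := ⟨fun _ => by obtain ⟨g, hg⟩ := (W.mem _).1 x.2; exact ⟨g, Subtype.ext hg⟩, fun _ => mem_top x⟩

theorem WData.bij (W : WData P) : Function.Bijective fun g : Mod => (⟨W.em g, W.em_mem g⟩ : ↥P) :=
  ⟨fun g h e => W.inj (congrArg Subtype.val e),
    fun x => by obtain ⟨g, hg⟩ := (W.mem _).1 x.2; exact ⟨g, Subtype.ext hg⟩⟩

/-- groups with coordinates are isomorphic -/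
theorem WData.iso (W : WData P) {P' : Subgroup S'} (W' : WData P') : Nonempty (↥P ≃* ↥P') := by
  let a := Equiv.ofBijective _ W.bij
  let b := Equiv.ofBijective _ W'.bij
  refine ⟨⟨a.symm.trans b, fun x y => ?_⟩⟩
  obtain ⟨g, rfl⟩ := a.surjective x
  obtain ⟨h, rfl⟩ := a.surjective y
  have e : a g * a h = a (mm g h) := Subtype.ext (W.hom g h).symm
  simp only [e, Equiv.toFun_as_coe, Equiv.trans_apply, Equiv.symm_apply_apply]
  exact Subtype.ext (W'.hom g h)

/-- the two normal elementary abelian subgroups of order sixteen, as sets -/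
def WData.VA (W : WData P) : Set S := W.em '' {g | inVA g = true}

/-- the other one -/
def WData.VC (W : WData P) : Set S := W.em '' {g | inVC g = true}

/-- exchanging the generators of the dihedral factors -/
def sigD (u : D) : D :=
  match u with
  | DihedralGroup.r i => DihedralGroup.r (-i)
  | DihedralGroup.sr i => DihedralGroup.sr (1 - i)

def sigM (g : Mod) : Mod := ((sigD g.1.1, sigD g.1.2), g.2)

theorem sigD_facts : (∀ u v : D, sigD (u * v) = sigD u * sigD v) ∧ (∀ u : D, sigD (sigD u) = u) ∧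
    (∀ u : D, inA (sigD u) = inC u) := by decide

theorem sigM_invol (g : Mod) : sigM (sigM g) = g := by
  simp [sigM, sigD_facts.2.1]

/-- the coordinate system with the generators exchanged -/
def WData.swap (W : WData P) : WData P where
  em g := W.em (sigM g)
  hom g h := by
    rw [← W.hom]
    congr 1
    rcases g with ⟨⟨a, b⟩, e⟩
    rcases h with ⟨⟨c, d⟩, f⟩
    cases e <;> simp [mm, sigM, sigD_facts.1]
  inj g h e := by simpa [sigM_invol] using congrArg sigM (W.inj e)
  mem x := (W.mem x).trans ⟨fun ⟨g, hg⟩ => ⟨sigM g, by rw [sigM_invol, hg]⟩, fun ⟨g, hg⟩ => ⟨sigM g, hg⟩⟩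

theorem WData.swap_VA (W : WData P) : W.swap.VA = W.VC := by
  ext x
  constructor
  · rintro ⟨g, hg, rfl⟩
    refine ⟨sigM g, ?_, rfl⟩
    simp only [Set.mem_ofPred_eq, inVC, inVA, sigM, ← sigD_facts.2.2, sigD_facts.2.1] at hg ⊢
    exact hg
  · rintro ⟨g, hg, rfl⟩
    refine ⟨sigM g, ?_, by show W.em (sigM (sigM g)) = _; rw [sigM_invol]⟩
    simp only [Set.mem_ofPred_eq, inVC, inVA, sigM, sigD_facts.2.2] at hg ⊢
    exact hg

theorem WData.swap_VC (W : WData P) : W.swap.VC = W.VA := by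
  ext x
  constructor
  · rintro ⟨g, hg, rfl⟩
    refine ⟨sigM g, ?_, rfl⟩
    simp only [Set.mem_ofPred_eq, inVC, inVA, sigM, sigD_facts.2.2] at hg ⊢
    exact hg
  · rintro ⟨g, hg, rfl⟩
    refine ⟨sigM g, ?_, by show W.em (sigM (sigM g)) = _; rw [sigM_invol]⟩
    simp only [Set.mem_ofPred_eq, inVC, inVA, sigM, ← sigD_facts.2.2, sigD_facts.2.1] at hg ⊢
    exact hg

end Cfsg.Agent.WreathD8
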