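import Mathlib

/-!
The wreath product of the dihedral group of order eight by a group of order two, in coordinates.
-/

set_option autoImplicit false
set_option maxHeartbeats 400000

namespace Cfsg.Agent.WreathD8

abbrev D := DihedralGroup 4
abbrev Mod := (D × D) × Bool

def zD : D := DihedralGroup.r 2
def aD : D := DihedralGroup.sr 0
def cD : D := DihedralGroup.sr 1

def mm (g h : Mod) : Mod :=
  (bif g.2 then (g.1.1 * h.1.2, g.1.2 * h.1.1) else (g.1.1 * h.1.1, g.1.2 * h.1.2), xor g.2 h.2)

def iv (g : Mod) : Mod := (bif g.2 then (g.1.2⁻¹, g.1.1⁻¹) else (g.1.1⁻¹, g.1.2⁻¹), g.2)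

def e1 : Mod := ((1, 1), false)
def zz : Mod := ((zD, zD), false)
def A₁ : Mod := ((aD, 1), false)
def C₁ : Mod := ((cD, 1), false)
def τ : Mod := ((1, 1), true)

def cj (p g : Mod) : Mod := mm (mm p g) (iv p)

def comm2 (g h : Mod) : Mod := mm (mm g h) (mm (iv g) (iv h))

def modZ (g h : Mod) : Bool := g == h || g == mm h zz

def inA (u : D) : Bool := u == 1 || u == zD || u == aD || u == aD * zD
def inC (u : D) : Bool := u == 1 || u == zD || u == cD || u == cD * zD
def inVA (g : Mod) : Bool := !g.2 && inA g.1.1 && inA g.1.2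
def inVC (g : Mod) : Bool := !g.2 && inC g.1.1 && inC g.1.2

theorem dec_split : ∀ x y : D, x * x = 1 → y * y = 1 → x * y = y * x →
    inA x = true ∧ inA y = true ∨ inC x = true ∧ inC y = true := by decide

theorem dec_pair : ∀ x y : D, x * x = 1 → y * y = 1 → inA x = false → inC y = false → x * y ≠ y * x := by decide

theorem dec_flag : ∀ u v : D, comm2 ((u, v), true) A₁ ≠ comm2 ((u, v), true) A₁ ∨
    mm (comm2 ((u, v), true) A₁) (comm2 ((u, v), true) C₁) ≠ mm (comm2 ((u, v), true) C₁) (comm2 ((u, v), true) A₁) := by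
  decide +kernel

theorem dec_center : ∀ g : Mod, mm g A₁ = mm A₁ g → mm g C₁ = mm C₁ g → mm g τ = mm τ g → g = e1 ∨ g = zz := by
  decide +kernel

theorem dec_centZ : ∀ g : Mod, modZ (cj g A₁) A₁ = true → modZ (cj g C₁) C₁ = true → cj g τ = τ →
    g = e1 ∨ g = zz := by decide +kernel

theorem dec_norm : ∀ a a' c c' u : D, inA a = true → inA a' = true → inC c = true → inC c' = true →
    (let A : Mod := ((a, a'), false); let C : Mod := ((c, c'), false); let r : Mod := ((u, u⁻¹), true)
     let q := mm (mm A C) (mm A C)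
     q = e1 ∨ mm A (cj r A) ≠ mm (cj r A) A ∨ mm A (cj r C) ≠ mm (cj r C) A ∨ mm C (cj r C) ≠ mm (cj r C) C ∨
      q = cj r q ∨ ∃ p : Mod, modZ (cj p A₁) A = true ∧ modZ (cj p C₁) C = true ∧ modZ (cj p τ) r = true) := by
  decide +kernel

end Cfsg.Agent.WreathD8
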